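import Groth.Prelude.Def_SiteCmp
import Groth.Agent.H31.FreeOn
import Groth.Agent.H45.BddCompact.ModFreeOn
import Groth.Agent.H45.RlimModW.LocalSurj
import Groth.Agent.H45.RlimModW.CoreO

/-!
# The direct image `ε_*` along the comparison morphism of two topologies, on modules (helper45)

`ε : (C, J, O) → (C, J', O)` for `J' ≤ J`.  `ε_*` is fully faithful, so the counit `ε^*ε_* → id` is an isomorphism and
the unit is an isomorphism on the essential image of `ε_*`; `ε_*` preserves epimorphisms whose kernel has vanishing
`H^1` on a basis of `J'`.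
-/

set_option autoImplicit false
universe u
open CategoryTheory CategoryTheory.Limits Opposite

namespace Groth.Agent.H45.SiteEps

open Groth.Agent.H31 (freeOnHomEquiv freeOnHomEquiv_naturality)

variable {C : Type u} [SmallCategory C] {J J' : GrothendieckTopology C} (h : J' ≤ J)
  (O : Sheaf J CommRingCat.{u})

/-- A morphism `ε_*M ⟶ ε_*N` is a morphism `M ⟶ N` (same underlying presheaves of modules). -/
noncomputable def pushPreimage (M N : ModSite.Mod O)
    (g : (SiteCmp.eps h O).push.obj M ⟶ (SiteCmp.eps h O).push.obj N) : M ⟶ N :=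
  ⟨{ app := fun X => g.val.app X
     naturality := fun f => g.val.naturality f }⟩

lemma push_map_pushPreimage (M N : ModSite.Mod O)
    (g : (SiteCmp.eps h O).push.obj M ⟶ (SiteCmp.eps h O).push.obj N) :
    (SiteCmp.eps h O).push.map (pushPreimage h O M N g) = g := rfl

lemma pushPreimage_push_map (M N : ModSite.Mod O) (g : M ⟶ N) :
    pushPreimage h O M N ((SiteCmp.eps h O).push.map g) = g := rfl

instance full_push : (SiteCmp.eps h O).push.Full :=
  ⟨fun {M N} g => ⟨pushPreimage h O M N g, rfl⟩⟩

instance faithful_push : (SiteCmp.eps h O).push.Faithful :=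
  ⟨fun {M N} g₁ g₂ hg => by
    have := congrArg (pushPreimage h O M N) hg
    exact this⟩

instance isIso_counit : IsIso (SiteCmp.eps h O).adj.counit :=
  Adjunction.counit_isIso_of_R_fully_faithful _

lemma isIso_unit_push (F : ModSite.Mod O) :
    IsIso ((SiteCmp.eps h O).adj.unit.app ((SiteCmp.eps h O).push.obj F)) := by
  have h1 := (SiteCmp.eps h O).adj.right_triangle_components F
  have h2 : IsIso ((SiteCmp.eps h O).push.map ((SiteCmp.eps h O).adj.counit.app F)) :=
    inferInstance
  exact IsIso.of_isIso_fac_right h1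

lemma isIso_unit_of_iso (F : ModSite.Mod O) (F' : ModSite.Mod (SiteCmp.epsRing h O))
    (e : (SiteCmp.eps h O).push.obj F ≅ F') :
    IsIso ((SiteCmp.eps h O).adj.unit.app F') := by
  have := isIso_unit_push h O F
  exact (NatTrans.isIso_app_iff_of_iso (SiteCmp.eps h O).adj.unit e).1 this

/-- `ε^*` is bijective on morphisms into an object of the essential image of `ε_*`. -/
lemma bijective_pull_map (P F' : ModSite.Mod (SiteCmp.epsRing h O))
    (hF' : IsIso ((SiteCmp.eps h O).adj.unit.app F')) :
    Function.Bijective (fun g : P ⟶ F' => (SiteCmp.eps h O).pull.map g) := by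
  have h1 : ∀ g : P ⟶ F', (SiteCmp.eps h O).adj.homEquiv P _ ((SiteCmp.eps h O).pull.map g) =
      g ≫ (SiteCmp.eps h O).adj.unit.app F' := by
    intro g
    rw [Adjunction.homEquiv_unit]
    exact ((SiteCmp.eps h O).adj.unit.naturality g).symm
  constructor
  · intro g₁ g₂ hg
    have h2 : g₁ ≫ (SiteCmp.eps h O).adj.unit.app F' = g₂ ≫ (SiteCmp.eps h O).adj.unit.app F' := by
      rw [← h1, ← h1]
      exact congrArg _ hg
    exact (cancel_mono _).1 h2
  · intro k
    refine ⟨(SiteCmp.eps h O).adj.homEquiv P _ k ≫ inv ((SiteCmp.eps h O).adj.unit.app F'), ?_⟩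
    apply ((SiteCmp.eps h O).adj.homEquiv P _).injective
    rw [h1, Category.assoc, IsIso.inv_hom_id, Category.comp_id]

end Groth.Agent.H45.SiteEps
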