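import Groth.Agent.H45.SiteEps.Push
import Groth.Agent.H33.SheafMod.Grothendieck

/-!
# `ε_*` preserves epimorphisms whose kernel has vanishing `H^1` on a basis of the coarser topology (helper45)
-/

set_option autoImplicit false
universe u
open CategoryTheory CategoryTheory.Limits Opposite

namespace Groth.Agent.H45.SiteEps

open Groth.Agent.H31 (freeOnHomEquiv freeOnHomEquiv_naturality)

variable {C : Type u} [SmallCategory C] {J J' : GrothendieckTopology C} (h : J' ≤ J)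
  (O : Sheaf J CommRingCat.{u})

/-- Sections over `V` lift along an epimorphism whose kernel has vanishing `H^1(V, -)`. -/
lemma exists_section_lift (S : ShortComplex (ModSite.Mod O)) (hS : S.ShortExact) (V : C)
    (hvan : Subsingleton (ModSite.HU O S.X₁ 1 V)) (σ : S.X₃.val.obj (op V)) :
    ∃ τ : S.X₂.val.obj (op V), S.g.val.app (op V) τ = σ := by
  have hG : IsGrothendieckAbelian.{u} (ModSite.Mod O) :=
    Groth.Agent.H33.SheafMod.isGrothendieckAbelian J (ModSite.ringSh O)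
  have hE : HasExt.{u} (ModSite.Mod O) := inferInstance
  obtain ⟨eqv⟩ := Groth.Agent.H45.BddCompact.nonempty_ext_freeOn_addEquiv O V S.X₁ 1
  have h0 : Subsingleton (Abelian.Ext (CohCx.freeSheaf J V)
      ((SheafOfModules.toSheaf.{u} (ModSite.ringSh O)).obj S.X₁) 1) := hvan
  have h' : Subsingleton (Abelian.Ext (ModSite.freeOn O V) S.X₁ 1) := eqv.toEquiv.subsingleton
  let s₃ : ModSite.freeOn O V ⟶ S.X₃ := (freeOnHomEquiv O V S.X₃).symm σ
  obtain ⟨x₂, hx₂⟩ := Abelian.Ext.covariant_sequence_exact₃ (ModSite.freeOn O V) hS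
    (Abelian.Ext.mk₀ s₃) (rfl : 0 + 1 = 1) (Subsingleton.elim _ _)
  obtain ⟨t, rfl⟩ := (Abelian.Ext.mk₀_bijective _ _).2 x₂
  rw [Abelian.Ext.mk₀_comp_mk₀] at hx₂
  have ht : t ≫ S.g = s₃ := (Abelian.Ext.mk₀_bijective _ _).1 hx₂
  refine ⟨freeOnHomEquiv O V S.X₂ t, ?_⟩
  rw [← freeOnHomEquiv_naturality, ht]
  exact Equiv.apply_symm_apply _ _

/-- `ε_*` preserves epimorphisms whose kernel has vanishing `H^1` on a basis of `J'`. -/
theorem epi_push_map (B : Set C)
    (hB : ∀ U : C, ∃ (ι : Type u) (Y : ι → C) (g : ∀ i, Y i ⟶ U),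
      Sieve.ofArrows Y g ∈ J' U ∧ ∀ i, Y i ∈ B)
    (S : ShortComplex (ModSite.Mod O)) (hS : S.ShortExact)
    (hvan : ∀ V ∈ B, Subsingleton (ModSite.HU O S.X₁ 1 V)) :
    Epi ((SiteCmp.eps h O).push.map S.g) := by
  apply (Groth.Agent.H45.RlimModW.toSh (SiteCmp.epsRing h O)).epi_of_epi_map
  refine Groth.Agent.H45.RlimModW.epi_of_local_lifts _ B hB ?_
  intro V hV σ
  obtain ⟨τ, hτ⟩ := exists_section_lift O S hS V (hvan V hV) σ
  refine ⟨PUnit.{u + 1}, fun _ => V, fun _ => 𝟙 V, ?_, fun _ => ⟨τ, ?_⟩⟩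
  · apply J'.covering_of_eq_top
    rw [← Sieve.id_mem_iff_eq_top]
    exact Sieve.ofArrows_mk (fun _ : PUnit.{u + 1} => V) (fun _ => 𝟙 V) PUnit.unit
  · refine Eq.trans ?_ (Eq.trans hτ ?_)
    · rfl
    · change σ = (AddCommGrpCat.Hom.hom
        (((RlimModW.toSh (SiteCmp.epsRing h O)).obj ((SiteCmp.eps h O).push.obj S.X₃)).obj.map
          (𝟙 (op V)))) σ
      rw [CategoryTheory.Functor.map_id]
      rfl

end Groth.Agent.H45.SiteEps
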