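import Mathlib.CategoryTheory.Sites.Grothendieck
import Mathlib.CategoryTheory.Sites.Sieves

/-!
# Refining a covering sieve by members of a basis (helper45)
-/

set_option autoImplicit false
universe u
open CategoryTheory

namespace Groth.Agent.H45.SiteEps

variable {C : Type u} [SmallCategory C] (J : GrothendieckTopology C) (B : Set C)

/-- If every object has a covering by members of `B`, every covering sieve contains a covering family whose members
lie in `B`. -/
theorem exists_refinement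
    (hB : ∀ U : C, ∃ (ι : Type u) (Y : ι → C) (g : ∀ i, Y i ⟶ U),
      Sieve.ofArrows Y g ∈ J U ∧ ∀ i, Y i ∈ B)
    (V : C) (T : Sieve V) (hT : T ∈ J V) :
    ∃ (ι : Type u) (Y : ι → C) (g : ∀ i, Y i ⟶ V),
      (∀ i, T.arrows (g i)) ∧ Sieve.ofArrows Y g ∈ J V ∧ ∀ i, Y i ∈ B := by
  choose ιB YB fB hcovB hYB using hB
  refine ⟨Σ (W : C), (Σ (_ : {g : W ⟶ V // T.arrows g}), ιB W), fun x => YB x.1 x.2.2,
    fun x => fB x.1 x.2.2 ≫ x.2.1.1, ?_, ?_, ?_⟩
  · intro x
    exact T.downward_closed x.2.1.2 _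
  · refine J.transitive hT _ ?_
    intro W g hg
    refine J.superset_covering ?_ (hcovB W)
    rintro Z u ⟨Z', v, w, ⟨i⟩, rfl⟩
    change (Sieve.ofArrows _ _).arrows ((v ≫ fB W i) ≫ g)
    rw [Category.assoc]
    exact Sieve.downward_closed _
      (Sieve.ofArrows_mk (fun x : Σ (W : C), (Σ (_ : {g : W ⟶ V // T.arrows g}), ιB W) =>
        YB x.1 x.2.2) (fun x => fB x.1 x.2.2 ≫ x.2.1.1) ⟨W, ⟨⟨g, hg⟩, i⟩⟩) v
  · intro x
    exact hYB x.1 x.2.2

end Groth.Agent.H45.SiteEps
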