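import Groth.Agent.H45.SiteEps.Push
import Groth.Agent.H45.Derived.SingleYoneda
import Groth.Agent.H45.Derived.TExact
import Groth.Agent.H45.RlimModW.VanishO
import Groth.Agent.H45.RlimModW.Transfer
import Groth.Agent.H45.RlimModW.TruncO

/-!
# The derived unit `F'[0] ⟶ Rε_* ε^* F'[0]` is an isomorphism on the essential image of `ε_*` (helper45)

`ε : (C, J, O) → (C, J', O)` the comparison morphism for `J' ≤ J`, assumed flat, `R` any right adjoint of
`ε^*` on derived categories; `F` an `O`-module on `(C, J)` with `H^p_J(U, F) = 0` for `p > 0` and `U` in a class `B`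
of objects through which every object has a `J'`-covering.
-/

set_option autoImplicit false
universe w w' u
open CategoryTheory CategoryTheory.Limits Opposite DerivedCategory

namespace Groth.Agent.H45.SiteEps

open Groth.Agent.H45.RlimModW

variable {C : Type u} [SmallCategory C] {J J' : GrothendieckTopology C} (h : J' ≤ J)
  (O : Sheaf J CommRingCat.{u})
  [HasDerivedCategory.{w} (ModSite.Mod O)]
  [HasDerivedCategory.{w'} (ModSite.Mod (SiteCmp.epsRing h O))]
  [PreservesFiniteLimits (SiteCmp.eps h O).pull]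
  {R : DerivedCategory (ModSite.Mod O) ⥤ DerivedCategory (ModSite.Mod (SiteCmp.epsRing h O))}
  (adj : (SiteCmp.eps h O).pull.mapDerivedCategory ⊣ R)

/-- `ε^*((ε_*F)[0]) ≅ F[0]`. -/
noncomputable def pullSingleIso (F : ModSite.Mod O) (F' : ModSite.Mod (SiteCmp.epsRing h O))
    (e : (SiteCmp.eps h O).push.obj F ≅ F') :
    (SiteCmp.eps h O).pull.mapDerivedCategory.obj
      ((singleFunctor (ModSite.Mod (SiteCmp.epsRing h O)) 0).obj F') ≅
      (singleFunctor (ModSite.Mod O) 0).obj F :=
  ((SiteCmp.eps h O).pull.mapDerivedCategorySingleFunctor 0).app F' ≪≫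
    (singleFunctor (ModSite.Mod O) 0).mapIso
      ((SiteCmp.eps h O).pull.mapIso e.symm ≪≫ asIso ((SiteCmp.eps h O).adj.counit.app F))

include adj in
theorem isIso_unit_single (B : Set C)
    (hB : ∀ U : C, ∃ (ι : Type u) (Y : ι → C) (g : ∀ i, Y i ⟶ U),
      Sieve.ofArrows Y g ∈ J' U ∧ ∀ i, Y i ∈ B)
    (F : ModSite.Mod O)
    (hvan : ∀ U ∈ B, ∀ p : ℕ, 0 < p → Subsingleton (ModSite.HU O F p U))
    (F' : ModSite.Mod (SiteCmp.epsRing h O)) (e : (SiteCmp.eps h O).push.obj F ≅ F') :
    IsIso (adj.unit.app ((singleFunctor (ModSite.Mod (SiteCmp.epsRing h O)) 0).obj F')) := by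
  letI := adj.rightAdjointCommShift ℤ
  let L := (SiteCmp.eps h O).pull.mapDerivedCategory
  let Y := (singleFunctor (ModSite.Mod (SiteCmp.epsRing h O)) 0).obj F'
  let eX := pullSingleIso h O F F' e
  have hL_LE : ∀ (X : DerivedCategory (ModSite.Mod (SiteCmp.epsRing h O))) (n : ℤ), X.IsLE n →
      (L.obj X).IsLE n :=
    fun Z n hZ => Groth.Agent.H45.isLE_mapDerivedCategory_obj (SiteCmp.eps h O).pull Z n hZ
  have hR : Groth.Agent.H45.LeftTExact R := Groth.Agent.H45.leftTExact_of_adjunction adj hL_LE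
  have hLY : (L.obj Y).IsGE 0 :=
    Groth.Agent.H45.isGE_mapDerivedCategory_obj (SiteCmp.eps h O).pull Y 0 inferInstance
  haveI hGE : (R.obj (L.obj Y)).IsGE 0 := hR _ 0 hLY
  haveI hLE : (R.obj (L.obj Y)).IsLE 0 := by
    rw [DerivedCategory.isLE_iff]
    intro q hq
    refine isZero_homology_of_subsingleton_HDUO (SiteCmp.epsRing h O) _ q B hB ?_
    intro V hV
    have hk : q - 0 = (q.toNat : ℤ) := by omega
    have h1 : Subsingleton (HDUO O (L.obj Y) q V) :=
      subsingleton_HDUO_of_HU O V F (L.obj Y) 0 q q.toNat hk eX (hvan V hV q.toNat (by omega))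
    have h2 : Subsingleton (HDUO O (L.obj Y) q ((SiteCmp.eps h O).fn.obj V)) := h1
    exact (transferEquiv (SiteCmp.eps h O) adj (L.obj Y) q V).subsingleton
  have hGE' : (((SiteCmp.eps h O).pull.mapDerivedCategory ⋙ R).obj Y).IsGE 0 := hGE
  have hLE' : (((SiteCmp.eps h O).pull.mapDerivedCategory ⋙ R).obj Y).IsLE 0 := hLE
  have hY1 : ((𝟭 (DerivedCategory (ModSite.Mod (SiteCmp.epsRing h O)))).obj Y).IsGE 0 :=
    (inferInstance : Y.IsGE 0)
  have hY2 : ((𝟭 (DerivedCategory (ModSite.Mod (SiteCmp.epsRing h O)))).obj Y).IsLE 0 :=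
    (inferInstance : Y.IsLE 0)
  apply Groth.Agent.H45.SingleYoneda.isIso_of_bijective_single
  intro P
  have hb := Groth.Agent.H45.SingleYoneda.bijective_mapDerivedCategory_map_single
    (SiteCmp.eps h O).pull P F' (bijective_pull_map h O P F' (isIso_unit_of_iso h O F F' e))
  have hcomp : (fun g : (singleFunctor _ 0).obj P ⟶ Y => g ≫ adj.unit.app Y) =
      fun g => adj.homEquiv _ _ (L.map g) := by
    funext g
    rw [Adjunction.homEquiv_unit]
    exact adj.unit.naturality g
  have hfin : Function.Bijective (fun g : (singleFunctor _ 0).obj P ⟶ Y => g ≫ adj.unit.app Y) := by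
    rw [hcomp]
    exact (adj.homEquiv _ _).bijective.comp hb
  exact hfin

end Groth.Agent.H45.SiteEps
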