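import Mathlib
import Groth.Prelude.Def_WeakSerre

/-!
# The essential image of a weak Serre subcategory under a fully faithful right adjoint (helper45)

Let `G : 𝒜 ⥤ ℬ` be a fully faithful functor between abelian categories with an exact left adjoint `F`, and `A ⊂ 𝒜` a
weak Serre subcategory such that `G` preserves the epimorphisms whose kernel lies in `A`.  Then the essential image
of `A` under `G` is a weak Serre subcategory of `ℬ`.
-/

set_option autoImplicit false
universe v₁ v₂ u₁ u₂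
open CategoryTheory CategoryTheory.Limits

namespace Groth.Agent.H45.SiteEps

variable {𝒜 : Type u₁} [Category.{v₁} 𝒜] [Abelian 𝒜] {ℬ : Type u₂} [Category.{v₂} ℬ] [Abelian ℬ]
  {F : ℬ ⥤ 𝒜} {G : 𝒜 ⥤ ℬ} (adj : F ⊣ G) [G.Full] [G.Faithful] [G.Additive]
  (A : ObjectProperty 𝒜) [WSerre.IsWeakSerre A]
  (hE : ∀ S : ShortComplex 𝒜, S.ShortExact → A S.X₁ → Epi (G.map S.g))

include adj in
lemma shortExact_map_of_epi (S : ShortComplex 𝒜) (hS : S.ShortExact) (h : Epi (G.map S.g)) :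
    (S.map G).ShortExact := by
  haveI : G.IsRightAdjoint := adj.isRightAdjoint
  haveI := hS.mono_f
  have h1 : (S.map G).Exact := hS.exact.map_of_mono_of_preservesKernel G hS.mono_f inferInstance
  haveI : Mono (S.map G).f := by
    change Mono (G.map S.f)
    infer_instance
  haveI : Epi (S.map G).g := h
  exact ShortComplex.ShortExact.mk h1

include adj hE in
/-- `G` preserves the cokernel of a morphism between objects of `A`. -/
lemma isColimit_map_cokernel {G₁ G₂ : 𝒜} (ψ : G₁ ⟶ G₂) (h₁ : A G₁) (h₂ : A G₂) :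
    Nonempty (IsColimit (CokernelCofork.ofπ (f := G.map ψ) (G.map (cokernel.π ψ))
      (by rw [← G.map_comp, cokernel.condition, G.map_zero]))) := by
  have hQ : A (cokernel ψ) := A.prop_cokernel ψ h₁ h₂
  have hI : A (Abelian.image ψ) := A.prop_kernel (cokernel.π ψ) h₂ hQ
  -- the two short exact sequences
  let Sa : ShortComplex 𝒜 := ShortComplex.mk (kernel.ι (Abelian.factorThruImage ψ))
    (Abelian.factorThruImage ψ) (kernel.condition _)
  have hSa : Sa.ShortExact := ShortComplex.ShortExact.mk (ShortComplex.exact_kernel _)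
  let Sb : ShortComplex 𝒜 := ShortComplex.mk (Abelian.image.ι ψ) (cokernel.π ψ)
    (kernel.condition _)
  have hSb : Sb.ShortExact := ShortComplex.ShortExact.mk (ShortComplex.exact_kernel _)
  have ea : Epi (G.map (Abelian.factorThruImage ψ)) :=
    hE Sa hSa (A.prop_kernel (Abelian.factorThruImage ψ) h₁ hI)
  have eb : Epi (G.map (cokernel.π ψ)) := hE Sb hSb hI
  have hSb' := shortExact_map_of_epi adj Sb hSb eb
  haveI : Epi (Sb.map G).g := eb
  have hc := hSb'.exact.gIsCokernel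
  have hfac : G.map ψ = G.map (Abelian.factorThruImage ψ) ≫ (Sb.map G).f := by
    change _ = _ ≫ G.map (Abelian.image.ι ψ)
    rw [← G.map_comp, Abelian.image.fac]
  exact ⟨isCokernelEpiComp hc (G.map (Abelian.factorThruImage ψ)) (hg := ea) hfac⟩

include adj in
lemma isIso_unit_of_map (M : ℬ) (hM : A.map G M) : IsIso (adj.unit.app M) := by
  obtain ⟨X, -, ⟨e⟩⟩ := hM
  have h1 := adj.right_triangle_components X
  haveI : IsIso (adj.counit.app X) := inferInstance
  haveI : IsIso (G.map (adj.counit.app X)) := inferInstance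
  haveI : IsIso (adj.unit.app (G.obj X) ≫ G.map (adj.counit.app X)) := by
    rw [h1]
    exact IsIso.id _
  have h2 : IsIso (adj.unit.app (G.obj X)) :=
    IsIso.of_isIso_comp_right _ (G.map (adj.counit.app X))
  exact (NatTrans.isIso_app_iff_of_iso adj.unit e).1 h2

include adj in
lemma prop_F_of_map (M : ℬ) (hM : A.map G M) : A (F.obj M) := by
  obtain ⟨X, hX, ⟨e⟩⟩ := hM
  haveI : IsIso (adj.counit.app X) := inferInstance
  exact A.prop_of_iso (F.mapIso e.symm ≪≫ asIso (adj.counit.app X)).symm hX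

include adj hE in
/-- The essential image of `A` under `G` is a weak Serre subcategory. -/
theorem isWeakSerre_map [PreservesFiniteLimits F] : WSerre.IsWeakSerre (A.map G) := by
  haveI : G.IsRightAdjoint := adj.isRightAdjoint
  haveI : F.IsLeftAdjoint := adj.isLeftAdjoint
  haveI : F.Additive := adj.left_adjoint_additive
  refine { exists_zero := ?_, kernels_le := ?_, cokernels_le := ?_, prop_X₂_of_shortExact := ?_ }
  · obtain ⟨Z, hZ, hAZ⟩ := A.exists_prop_of_containsZero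
    exact ⟨G.obj Z, G.map_isZero hZ, A.prop_map_obj G hAZ⟩
  · rintro _ ⟨f, k, hk, ⟨⟨X₁, hX₁, ⟨e₁⟩⟩, ⟨X₂, hX₂, ⟨e₂⟩⟩⟩⟩
    let f' : G.obj X₁ ⟶ G.obj X₂ := e₁.hom ≫ f ≫ e₂.inv
    let ψ : X₁ ⟶ X₂ := G.preimage f'
    have hψ : G.map ψ = f' := G.map_preimage f'
    have i1 : G.obj (kernel ψ) ≅ kernel (G.map ψ) := PreservesKernel.iso G ψ
    have i2 : kernel (G.map ψ) ≅ kernel f :=
      kernel.mapIso (G.map ψ) f e₁ e₂ (by
        rw [hψ]
        simp [f'])
    have i3 : kernel f ≅ k.pt := limit.isoLimitCone ⟨k, hk⟩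
    exact ⟨kernel ψ, A.prop_kernel ψ hX₁ hX₂, ⟨i1 ≪≫ i2 ≪≫ i3⟩⟩
  · rintro _ ⟨f, k, hk, ⟨⟨X₁, hX₁, ⟨e₁⟩⟩, ⟨X₂, hX₂, ⟨e₂⟩⟩⟩⟩
    let f' : G.obj X₁ ⟶ G.obj X₂ := e₁.hom ≫ f ≫ e₂.inv
    let ψ : X₁ ⟶ X₂ := G.preimage f'
    have hψ : G.map ψ = f' := G.map_preimage f'
    obtain ⟨hc⟩ := isColimit_map_cokernel adj A hE ψ hX₁ hX₂
    have i1 : G.obj (cokernel ψ) ≅ cokernel (G.map ψ) :=
      IsColimit.coconePointUniqueUpToIso hc (colimit.isColimit _)
    have i2 : cokernel (G.map ψ) ≅ cokernel f :=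
      cokernel.mapIso (G.map ψ) f e₁ e₂ (by
        rw [hψ]
        simp [f'])
    have i3 : cokernel f ≅ k.pt := colimit.isoColimitCocone ⟨k, hk⟩
    exact ⟨cokernel ψ, A.prop_cokernel ψ hX₁ hX₂, ⟨i1 ≪≫ i2 ≪≫ i3⟩⟩
  · intro S hS h₁ h₃
    have hSF : (S.map F).ShortExact := hS.map_of_exact F
    have hA₁ : A (S.map F).X₁ := prop_F_of_map adj A _ h₁
    have hA₃ : A (S.map F).X₃ := prop_F_of_map adj A _ h₃
    have hA₂ : A (F.obj S.X₂) := A.prop_X₂_of_shortExact hSF hA₁ hA₃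
    have hSFG : ((S.map F).map G).ShortExact :=
      shortExact_map_of_epi adj (S.map F) hSF (hE _ hSF hA₁)
    let φ : S ⟶ (S.map F).map G :=
      { τ₁ := adj.unit.app S.X₁
        τ₂ := adj.unit.app S.X₂
        τ₃ := adj.unit.app S.X₃
        comm₁₂ := (adj.unit.naturality S.f).symm
        comm₂₃ := (adj.unit.naturality S.g).symm }
    haveI : IsIso φ.τ₁ := isIso_unit_of_map adj A _ h₁
    haveI : IsIso φ.τ₃ := isIso_unit_of_map adj A _ h₃
    have h2 : IsIso φ.τ₂ := ShortComplex.isIso₂_of_shortExact_of_isIso₁₃ φ hS hSFG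
    exact ⟨F.obj S.X₂, hA₂, ⟨(asIso φ.τ₂).symm⟩⟩

end Groth.Agent.H45.SiteEps
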